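import Mathlib

/-!
# Sections of constant sheaves of modules: an exact linear functor of the value
-/

set_option autoImplicit false
set_option backward.isDefEq.respectTransparency false
set_option backward.isDefEq.respectTransparency.types false
set_option linter.style.haveILetI false

universe u

open CategoryTheory CategoryTheory.Limits Opposite TensorProduct

noncomputable section

namespace ConstModLib

variable {C : Type u} [SmallCategory C] (J : GrothendieckTopology C) {Λ : Type u} [CommRing Λ] (U : C)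

/-- Sections over `U` of the constant sheaf, as a functor of the value. -/
abbrev Φ : ModuleCat.{u} Λ ⥤ ModuleCat.{u} Λ :=
  constantSheaf J (ModuleCat.{u} Λ) ⋙ sheafToPresheaf J _ ⋙ (evaluation Cᵒᵖ _).obj (op U)

/-- The map on sections induced by a linear map. -/
def mapΦ {X Y : ModuleCat.{u} Λ} (g : X →ₗ[Λ] Y) : (Φ J U).obj X →ₗ[Λ] (Φ J U).obj Y :=
  ((Φ J U).map (ModuleCat.ofHom g)).hom

theorem mapΦ_comp {X Y Z : ModuleCat.{u} Λ} (g : X →ₗ[Λ] Y) (g' : Y →ₗ[Λ] Z) :
    mapΦ J U (g'.comp g) = (mapΦ J U g').comp (mapΦ J U g) := by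
  rw [mapΦ, show ModuleCat.ofHom (g'.comp g) = ModuleCat.ofHom g ≫ ModuleCat.ofHom g' from rfl,
    Functor.map_comp]
  rfl

theorem mapΦ_id (X : ModuleCat.{u} Λ) : mapΦ J U (LinearMap.id : X →ₗ[Λ] X) = LinearMap.id := by
  rw [mapΦ, show ModuleCat.ofHom (LinearMap.id : X →ₗ[Λ] X) = 𝟙 X from rfl, CategoryTheory.Functor.map_id]
  rfl

instance : (presheafToSheaf J (ModuleCat.{u} Λ)).Additive :=
  (sheafificationAdjunction J (ModuleCat.{u} Λ)).left_adjoint_additive

instance : PreservesFiniteLimits (constantSheaf J (ModuleCat.{u} Λ)) :=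
  @comp_preservesFiniteLimits _ _ _ _ _ _ (Functor.const Cᵒᵖ) (presheafToSheaf J _) inferInstance inferInstance

instance : PreservesFiniteLimits (Φ (Λ := Λ) J U) :=
  @comp_preservesFiniteLimits _ _ _ _ _ _ (constantSheaf J _) (sheafToPresheaf J _ ⋙ (evaluation Cᵒᵖ _).obj (op U))
    inferInstance (@comp_preservesFiniteLimits _ _ _ _ _ _ (sheafToPresheaf J _) ((evaluation Cᵒᵖ _).obj (op U))
      inferInstance inferInstance)

instance : (Φ (Λ := Λ) J U).Additive := Functor.additive_of_preserves_binary_products _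

theorem mapΦ_add {X Y : ModuleCat.{u} Λ} (g g' : X →ₗ[Λ] Y) :
    mapΦ J U (g + g') = mapΦ J U g + mapΦ J U g' := by
  rw [mapΦ, show ModuleCat.ofHom (g + g') = ModuleCat.ofHom g + ModuleCat.ofHom g' from rfl, Functor.map_add]
  rfl

theorem mapΦ_zero {X Y : ModuleCat.{u} Λ} : mapΦ J U (0 : X →ₗ[Λ] Y) = 0 := by
  rw [mapΦ, show ModuleCat.ofHom (0 : X →ₗ[Λ] Y) = 0 from rfl, Functor.map_zero]
  rfl

theorem mapΦ_smul {X Y : ModuleCat.{u} Λ} (r : Λ) (g : X →ₗ[Λ] Y) :
    mapΦ J U (r • g) = r • mapΦ J U g := by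
  have e : (constantSheaf J (ModuleCat.{u} Λ)).map (ModuleCat.ofHom (r • g)) =
      r • (constantSheaf J (ModuleCat.{u} Λ)).map (ModuleCat.ofHom g) := by
    refine ObjectProperty.hom_ext _ (sheafify_hom_ext J _ _ ((presheafToSheaf J _).obj _).property ?_)
    refine ((toSheafify_naturality J _).symm.trans ?_)
    ext V x
    have h := ConcreteCategory.congr_hom
      (NatTrans.congr_app (toSheafify_naturality J ((Functor.const Cᵒᵖ).map (ModuleCat.ofHom g))) V) x
    refine (LinearMap.map_smul (ModuleCat.Hom.hom ((toSheafify J ((Functor.const Cᵒᵖ).obj Y)).app V)) r (g x)).trans ?_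
    exact congrArg (r • ·) h
  exact congrArg (fun t => (t.hom.app (op U)).hom) e

/-- Surjections of values give surjections of sections. -/
theorem mapΦ_surjective {X Y : ModuleCat.{u} Λ} (g : X →ₗ[Λ] Y) (hg : Function.Surjective g) :
    Function.Surjective (mapΦ J U g) := by
  choose s hs using hg
  let cA := (Functor.const Cᵒᵖ).obj X
  let cB := (Functor.const Cᵒᵖ).obj Y
  let F := forget (ModuleCat.{u} Λ)
  let g₀ : cA ⋙ F ⟶ cB ⋙ F :=
    Functor.whiskerRight ((Functor.const Cᵒᵖ).map (ModuleCat.ofHom g)) F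
  let s₀ : cB ⋙ F ⟶ cA ⋙ F :=
    { app := fun _ => TypeCat.ofHom s
      naturality := fun _ _ _ => rfl }
  let ηA := Functor.whiskerRight (toSheafify J cA) F
  let ηB := Functor.whiskerRight (toSheafify J cB) F
  have hW : J.W ηB := GrothendieckTopology.W_of_preservesSheafification J F _ (J.W_toSheafify cB)
  let gS : sheafify J cA ⋙ F ⟶ sheafify J cB ⋙ F :=
    Functor.whiskerRight (sheafifyMap J ((Functor.const Cᵒᵖ).map (ModuleCat.ofHom g))) F
  have hA : Presheaf.IsSheaf J (sheafify J cA ⋙ F) :=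
    ((sheafCompose J F).obj ((presheafToSheaf J _).obj cA)).property
  have hB : Presheaf.IsSheaf J (sheafify J cB ⋙ F) :=
    ((sheafCompose J F).obj ((presheafToSheaf J _).obj cB)).property
  obtain ⟨r, hr⟩ := (hW _ hA).2 (s₀ ≫ ηA)
  have hnat : ηA ≫ gS = g₀ ≫ ηB := by
    simp only [ηA, ηB, gS, g₀, ← Functor.whiskerRight_comp]
    exact congrArg (Functor.whiskerRight · _) (toSheafify_naturality J _).symm
  have hrg : r ≫ gS = 𝟙 _ := by
    refine (hW _ hB).1 ?_
    change ηB ≫ r ≫ gS = ηB ≫ 𝟙 _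
    have hr' : ηB ≫ r = s₀ ≫ ηA := hr
    have hsg : s₀ ≫ g₀ = 𝟙 _ := by
      ext V b
      exact hs b
    rw [reassoc_of% hr', hnat, Category.comp_id, ← Category.assoc, hsg, Category.id_comp]
  intro y
  exact ⟨r.app (op U) y, ConcreteCategory.congr_hom (NatTrans.congr_app hrg (op U)) y⟩

/-- Injections of values give injections of sections. -/
theorem mapΦ_injective {X Y : ModuleCat.{u} Λ} (g : X →ₗ[Λ] Y) (hg : Function.Injective g) :
    Function.Injective (mapΦ J U g) := by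
  haveI : Mono (ModuleCat.ofHom g) := (ModuleCat.mono_iff_injective _).2 hg
  exact (ModuleCat.mono_iff_injective ((Φ J U).map (ModuleCat.ofHom g))).1 inferInstance

/-- Exact sequences of values give exact sequences of sections. -/
theorem mapΦ_exact {X Y Z : ModuleCat.{u} Λ} (f : X →ₗ[Λ] Y) (g : Y →ₗ[Λ] Z)
    (h : Function.Exact f g) : Function.Exact (mapΦ J U f) (mapΦ J U g) := by
  let g' := ModuleCat.ofHom g
  intro y
  constructor
  · intro hy
    -- left exactness
    let S : ShortComplex (ModuleCat.{u} Λ) := ShortComplex.mk (kernel.ι g') g' (kernel.condition g')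
    have hS : (S.map (Φ J U)).Exact :=
      ShortComplex.exact_of_f_is_kernel _
        (isLimitForkMapOfIsLimit' (Φ J U) S.zero (kernelIsKernel g'))
    obtain ⟨z, hz⟩ := (ShortComplex.moduleCat_exact_iff _).1 hS y hy
    let f' : X →ₗ[Λ] ↥(kernel g' : ModuleCat.{u} Λ) := (kernel.lift g' (ModuleCat.ofHom f)
      (ModuleCat.hom_ext (LinearMap.ext fun x => (h (f x)).2 ⟨x, rfl⟩))).hom
    have hf' : (kernel.ι g').hom.comp f' = f :=
      congrArg ModuleCat.Hom.hom (kernel.lift_ι g' (ModuleCat.ofHom f) _)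
    have hsurj : Function.Surjective f' := fun k => by
      obtain ⟨x, hx⟩ := (h ((kernel.ι g').hom k)).1 (ConcreteCategory.congr_hom (kernel.condition g') k)
      refine ⟨x, (ModuleCat.mono_iff_injective (kernel.ι g')).1 inferInstance ?_⟩
      exact (LinearMap.congr_fun hf' x).trans hx
    obtain ⟨x, hx⟩ := mapΦ_surjective J U f' hsurj z
    refine ⟨x, ?_⟩
    rw [← hf', mapΦ_comp, LinearMap.comp_apply, hx]
    exact hz
  · rintro ⟨x, rfl⟩
    rw [← LinearMap.comp_apply, ← mapΦ_comp, h.linearMap_comp_eq_zero, mapΦ_zero]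
    rfl

section Tensor

variable (M : Type u) [AddCommGroup M] [Module Λ M]

/-- `m ↦ m ⊗ q`, linearly in `q`, on sections. -/
def bilin (Q : Type u) [AddCommGroup Q] [Module Λ Q] :
    Q →ₗ[Λ] (Φ J U).obj (ModuleCat.of Λ M) →ₗ[Λ] (Φ J U).obj (ModuleCat.of Λ (M ⊗[Λ] Q)) where
  toFun q := mapΦ J U (X := ModuleCat.of Λ M) (Y := ModuleCat.of Λ (M ⊗[Λ] Q)) ((TensorProduct.mk Λ M Q).flip q)
  map_add' a b := by rw [map_add]; exact mapΦ_add J U _ _
  map_smul' a b := by rw [map_smul]; exact mapΦ_smul J U _ _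

/-- The comparison map `M̲(U) ⊗ Q → (M ⊗ Q)̲(U)`. -/
def cmp (Q : Type u) [AddCommGroup Q] [Module Λ Q] :
    (Φ J U).obj (ModuleCat.of Λ M) ⊗[Λ] Q →ₗ[Λ] (Φ J U).obj (ModuleCat.of Λ (M ⊗[Λ] Q)) :=
  TensorProduct.lift (bilin J U M Q).flip

@[simp]
theorem cmp_tmul (Q : Type u) [AddCommGroup Q] [Module Λ Q] (s : (Φ J U).obj (ModuleCat.of Λ M)) (q : Q) :
    cmp J U M Q (s ⊗ₜ q) =
      mapΦ J U (X := ModuleCat.of Λ M) (Y := ModuleCat.of Λ (M ⊗[Λ] Q)) ((TensorProduct.mk Λ M Q).flip q) s := rfl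

theorem cmp_natural {Q Q' : Type u} [AddCommGroup Q] [Module Λ Q] [AddCommGroup Q'] [Module Λ Q']
    (f : Q →ₗ[Λ] Q') :
    (mapΦ J U (X := ModuleCat.of Λ (M ⊗[Λ] Q)) (Y := ModuleCat.of Λ (M ⊗[Λ] Q')) (f.lTensor M)).comp
      (cmp J U M Q) = (cmp J U M Q').comp (f.lTensor _) := by
  refine TensorProduct.ext' fun s q => ?_
  have e : (f.lTensor M).comp ((TensorProduct.mk Λ M Q).flip q) = (TensorProduct.mk Λ M Q').flip (f q) :=
    LinearMap.ext fun m => rfl
  exact (LinearMap.congr_fun (mapΦ_comp J U (X := ModuleCat.of Λ M) (Y := ModuleCat.of Λ (M ⊗[Λ] Q))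
    (Z := ModuleCat.of Λ (M ⊗[Λ] Q')) _ _).symm s).trans (by rw [e]; rfl)

theorem cmp_free_bijective (n : ℕ) : Function.Bijective (cmp (Λ := Λ) J U M (Fin n → Λ)) := by
  let b : Fin n → (Fin n → Λ) := fun i => Pi.single i 1
  let p : Fin n → (M ⊗[Λ] (Fin n → Λ) →ₗ[Λ] M) := fun i =>
    (TensorProduct.rid Λ M).toLinearMap.comp ((LinearMap.proj i).lTensor M)
  let P : Fin n → ((Φ J U).obj (ModuleCat.of Λ (M ⊗[Λ] (Fin n → Λ))) →ₗ[Λ] (Φ J U).obj (ModuleCat.of Λ M)) :=
    fun i => mapΦ J U (X := ModuleCat.of Λ (M ⊗[Λ] (Fin n → Λ))) (Y := ModuleCat.of Λ M) (p i)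
  have hq : ∀ q : Fin n → Λ, ∑ i, q i • b i = q := fun q => by
    funext j; simp [b, Finset.sum_apply, Pi.single_apply]
  have hid : (LinearMap.id : M ⊗[Λ] (Fin n → Λ) →ₗ[Λ] _) =
      ∑ i, ((TensorProduct.mk Λ M (Fin n → Λ)).flip (b i)).comp (p i) := by
    refine TensorProduct.ext' fun m q => ?_
    simp only [LinearMap.id_apply, LinearMap.coe_sum, Finset.sum_apply, LinearMap.comp_apply]
    conv_lhs => rw [← hq q, tmul_sum]
    exact Finset.sum_congr rfl fun i _ => by simp [p, smul_tmul]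
  have hsum : ∀ (s : Finset (Fin n)) (g : Fin n → (M ⊗[Λ] (Fin n → Λ) →ₗ[Λ] M ⊗[Λ] (Fin n → Λ))),
      mapΦ J U (X := ModuleCat.of Λ (M ⊗[Λ] (Fin n → Λ))) (Y := ModuleCat.of Λ (M ⊗[Λ] (Fin n → Λ)))
        (∑ i ∈ s, g i) = ∑ i ∈ s, mapΦ J U (g i) := fun s g => by
    induction s using Finset.cons_induction with
    | empty => simp only [Finset.sum_empty]; exact mapΦ_zero J U
    | cons a s ha ih => rw [Finset.sum_cons, Finset.sum_cons, ← ih]; exact mapΦ_add J U _ _
  constructor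
  · -- left inverse
    have hleft : ∀ x, ∑ i, P i (cmp J U M (Fin n → Λ) x) ⊗ₜ[Λ] b i = x := fun x => by
      induction x using TensorProduct.induction_on with
      | zero => exact Finset.sum_eq_zero fun i _ => by erw [map_zero, zero_tmul]
      | add x y hx hy => simp only [map_add, add_tmul, Finset.sum_add_distrib, hx, hy]
      | tmul s q =>
        conv_rhs => rw [← hq q, tmul_sum]
        refine Finset.sum_congr rfl fun i _ => ?_
        have e : (p i).comp ((TensorProduct.mk Λ M (Fin n → Λ)).flip q) = q i • LinearMap.id :=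
          LinearMap.ext fun m => by simp [p]
        have e' : P i (cmp J U M (Fin n → Λ) (s ⊗ₜ q)) = q i • s := by
          refine (LinearMap.congr_fun (mapΦ_comp J U (X := ModuleCat.of Λ M)
            (Y := ModuleCat.of Λ (M ⊗[Λ] (Fin n → Λ))) (Z := ModuleCat.of Λ M) _ _).symm s).trans ?_
          rw [e]
          exact (LinearMap.congr_fun ((mapΦ_smul J U _ _).trans (congrArg (q i • ·) (mapΦ_id J U _))) s)
        rw [e', smul_tmul, tmul_smul]
    exact Function.LeftInverse.injective (g := fun t => ∑ i, P i t ⊗ₜ[Λ] b i) hleft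
  · intro t
    refine ⟨∑ i, P i t ⊗ₜ[Λ] b i, ?_⟩
    rw [map_sum]
    have h := LinearMap.congr_fun ((mapΦ_id J U (ModuleCat.of Λ (M ⊗[Λ] (Fin n → Λ)))).symm.trans
      ((congrArg (fun g => mapΦ J U g) hid).trans (hsum _ _))) t
    rw [LinearMap.id_apply, LinearMap.sum_apply] at h
    refine Eq.trans (Finset.sum_congr rfl fun i _ => ?_) h.symm
    exact (LinearMap.congr_fun (mapΦ_comp J U (X := ModuleCat.of Λ (M ⊗[Λ] (Fin n → Λ)))
      (Y := ModuleCat.of Λ M) (Z := ModuleCat.of Λ (M ⊗[Λ] (Fin n → Λ))) _ _) t).symm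

theorem cmp_bijective (Q : Type u) [AddCommGroup Q] [Module Λ Q] [Module.FinitePresentation Λ Q] :
    Function.Bijective (cmp (Λ := Λ) J U M Q) := by
  obtain ⟨n, π, hπ⟩ := Module.Finite.exists_fin' Λ Q
  haveI : Module.Finite Λ (LinearMap.ker π) :=
    Module.Finite.iff_fg.2 (Module.FinitePresentation.fg_ker π hπ)
  obtain ⟨m, σ, hσ⟩ := Module.Finite.exists_fin' Λ (LinearMap.ker π)
  let r : (Fin m → Λ) →ₗ[Λ] (Fin n → Λ) := (LinearMap.ker π).subtype.comp σ
  have hex : Function.Exact r π := fun x => by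
    constructor
    · intro hx
      obtain ⟨y, hy⟩ := hσ ⟨x, hx⟩
      exact ⟨y, congrArg Subtype.val hy⟩
    · rintro ⟨y, rfl⟩
      exact (σ y).2
  have hM : Function.Exact (r.lTensor M) (π.lTensor M) := lTensor_exact M hex hπ
  have hN := lTensor_exact ((Φ J U).obj (ModuleCat.of Λ M)) hex hπ
  have hΦ := mapΦ_exact J U (X := ModuleCat.of Λ (M ⊗[Λ] (Fin m → Λ)))
    (Y := ModuleCat.of Λ (M ⊗[Λ] (Fin n → Λ))) (Z := ModuleCat.of Λ (M ⊗[Λ] Q)) _ _ hM
  have hsurj := mapΦ_surjective J U (X := ModuleCat.of Λ (M ⊗[Λ] (Fin n → Λ)))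
    (Y := ModuleCat.of Λ (M ⊗[Λ] Q)) _ (LinearMap.lTensor_surjective M hπ)
  have nat₁ := fun x => LinearMap.congr_fun (cmp_natural J U M r) x
  have nat₂ := fun x => LinearMap.congr_fun (cmp_natural J U M π) x
  simp only [LinearMap.comp_apply] at nat₁ nat₂
  constructor
  · refine (injective_iff_map_eq_zero _).2 fun x hx => ?_
    obtain ⟨y, rfl⟩ := LinearMap.lTensor_surjective _ hπ x
    rw [← nat₂] at hx
    obtain ⟨z, hz⟩ := (hΦ _).1 hx
    obtain ⟨w, rfl⟩ := (cmp_free_bijective J U M m).2 z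
    rw [nat₁] at hz
    rw [← (cmp_free_bijective J U M n).1 hz]
    exact hN.apply_apply_eq_zero w
  · intro t
    obtain ⟨y, rfl⟩ := hsurj t
    obtain ⟨x, rfl⟩ := (cmp_free_bijective J U M n).2 y
    exact ⟨_, (nat₂ x).symm⟩

end Tensor

end ConstModLib
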